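import Cfsg.Agent.Lib.PGroups.RealClass.TwoGroupAut
import Cfsg.Agent.Lib.Transfer.Fusion
import Cfsg.Agent.Lib.Core.Basic

/-!
# Real classes with equal 2-parts, real-free Sylow 2-subgroup

* `hasNormalPComplement_two_gen`: the subgroup generated by the 2-elements has a normal
  2-complement;
* `solvable_and_complement` : S4193, given that groups of odd order are solvable.
-/

set_option autoImplicit false
set_option linter.all false

universe u

namespace CfsgLib.PGroups.RealClass

open Subgroup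

variable {G : Type u} [Group G] [Finite G]

/-- Real elements of any 2-subgroup square to one. -/
theorem real_free (S : Sylow 2 G)
    (hS : ∀ s : ↥(S : Subgroup G), IsConj s s⁻¹ → s ∈ Subgroup.center ↥(S : Subgroup G))
    {U : Subgroup G} (hU : IsPGroup 2 U) (w v : U) (h : v⁻¹ * w * v = w⁻¹) : w * w = 1 := by
  obtain ⟨T, hT⟩ := hU.exists_le_sylow
  obtain ⟨g, hg⟩ := MulAction.exists_smul_eq G T S
  have hmem : ∀ x : U, g * (x : G) * g⁻¹ ∈ (S : Subgroup G) := fun x => by
    rw [← hg, Sylow.coe_subgroup_smul, Subgroup.mem_pointwise_smul_iff_inv_smul_mem,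
      ← map_inv, MulAut.smul_def, MulAut.conj_apply]
    have he : g⁻¹ * (g * (x : G) * g⁻¹) * g⁻¹⁻¹ = x := by group
    rw [he]; exact hT x.2
  let f : U →* (S : Subgroup G) :=
    { toFun := fun x => ⟨g * (x : G) * g⁻¹, hmem x⟩
      map_one' := Subtype.ext (by simp)
      map_mul' := fun a b => Subtype.ext (by simp [mul_assoc]) }
  have hf : Function.Injective f := fun a b hab => by
    have := congrArg Subtype.val hab
    simpa [f] using this
  have h1 : (f v)⁻¹ * f w * f v = (f w)⁻¹ := by rw [← map_inv, ← map_mul, ← map_mul, h, map_inv]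
  have hc : IsConj (f w) (f w)⁻¹ := isConj_iff.mpr ⟨(f v)⁻¹, by rw [inv_inv]; exact h1⟩
  have h2 := Subgroup.mem_center_iff.mp (hS _ hc) (f v)⁻¹
  rw [h2, inv_mul_cancel_right] at h1
  apply hf
  rw [map_mul, map_one]
  exact eq_inv_iff_mul_eq_one.mp h1

/-- An involution is central in every Sylow 2-subgroup containing it. -/
theorem sylow_le_centralizer (S : Sylow 2 G)
    (hS : ∀ s : ↥(S : Subgroup G), IsConj s s⁻¹ → s ∈ Subgroup.center ↥(S : Subgroup G))
    (T : Sylow 2 G) {t : G} (ht : t ∈ (T : Subgroup G)) (h2 : t * t = 1) :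
    ∀ y ∈ (T : Subgroup G), y * t = t * y := by
  intro y hy
  obtain ⟨g, hg⟩ := MulAction.exists_smul_eq G T S
  have hmem : ∀ x ∈ (T : Subgroup G), g * x * g⁻¹ ∈ (S : Subgroup G) := fun x hx => by
    rw [← hg, Sylow.coe_subgroup_smul, Subgroup.mem_pointwise_smul_iff_inv_smul_mem,
      ← map_inv, MulAut.smul_def, MulAut.conj_apply]
    have he : g⁻¹ * (g * x * g⁻¹) * g⁻¹⁻¹ = x := by group
    rwa [he]
  have hinv : (⟨g * t * g⁻¹, hmem t ht⟩ : (S : Subgroup G))⁻¹ = ⟨g * t * g⁻¹, hmem t ht⟩ := by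
    refine inv_eq_of_mul_eq_one_right (Subtype.ext ?_)
    show g * t * g⁻¹ * (g * t * g⁻¹) = 1
    calc g * t * g⁻¹ * (g * t * g⁻¹) = g * (t * t) * g⁻¹ := by group
      _ = 1 := by rw [h2]; group
  have hc := hS ⟨g * t * g⁻¹, hmem t ht⟩ (by rw [hinv])
  have h1 : g * y * g⁻¹ * (g * t * g⁻¹) = g * t * g⁻¹ * (g * y * g⁻¹) :=
    congrArg Subtype.val (Subgroup.mem_center_iff.mp hc ⟨g * y * g⁻¹, hmem y hy⟩)
  have h3 := congrArg (fun z => g⁻¹ * z * g) h1
  simpa [mul_assoc] using h3

/-- With `a = 0`, no nontrivial element of odd order is inverted. -/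
theorem eq_one_of_inverted
    (h : ∀ x : G, IsConj x x⁻¹ → x ∉ Subgroup.center G →
      ((Subgroup.centralizer ({x} : Set G)).index).factorization 2 = 0)
    {x g : G} (hx : Odd (orderOf x)) (hg : g * x * g⁻¹ = x⁻¹) : x = 1 := by
  haveI : Fact (Nat.Prime 2) := ⟨Nat.prime_two⟩
  by_contra hx1
  have hne : x⁻¹ ≠ x := fun he => by
    have h2 : x ^ 2 = 1 := by rw [pow_two, ← inv_eq_iff_mul_eq_one]; exact he
    have := Nat.eq_one_of_dvd_coprimes (Nat.coprime_two_left.mpr hx) (orderOf_dvd_of_pow_eq_one h2)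
      dvd_rfl
    exact hx1 (orderOf_eq_one_iff.mp this)
  have hnc : x ∉ Subgroup.center G := fun hc => hne (by
    rw [← hg, Subgroup.mem_center_iff.mp hc g]; group)
  have h0 := h x (isConj_iff.mpr ⟨g, hg⟩) hnc
  set H := Subgroup.centralizer ({x} : Set G) with hH
  -- replace `g` by its 2-part
  obtain ⟨k, m, hm2, hgo⟩ := Nat.exists_eq_pow_mul_and_not_dvd (orderOf_pos g).ne' 2 (by norm_num)
  have hmodd : Odd m := Nat.odd_iff.mpr (Nat.two_dvd_ne_zero.mp hm2)
  set g' := g ^ m with hg'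
  have hstep : ∀ j : ℕ, g ^ j * x * (g ^ j)⁻¹ = if Odd j then x⁻¹ else x := by
    intro j
    induction j with
    | zero => simp
    | succ j ih =>
      have e : g ^ (j + 1) * x * (g ^ (j + 1))⁻¹ = g * (g ^ j * x * (g ^ j)⁻¹) * g⁻¹ := by
        rw [pow_succ']; group
      rw [e, ih]
      rcases Nat.even_or_odd j with hj | hj
      · rw [if_neg (Nat.not_odd_iff_even.mpr hj), hg, if_pos hj.add_one]
      · rw [if_pos hj, if_neg (by rw [Nat.not_odd_iff_even]; exact hj.add_one)]
        calc g * x⁻¹ * g⁻¹ = (g * x * g⁻¹)⁻¹ := by group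
          _ = x := by rw [hg, inv_inv]
  have hg'x : g' * x * g'⁻¹ = x⁻¹ := by rw [hg', hstep, if_pos hmodd]
  have hg'H : g' ∉ H := fun hm => by
    apply hne
    rw [← hg'x, Subgroup.mem_centralizer_singleton_iff.mp hm]; group
  have hnorm : Subgroup.zpowers g' ≤ Subgroup.normalizer (H : Set G) := by
    rw [Subgroup.zpowers_le, Subgroup.mem_normalizer_iff]
    intro n
    simp only [hH, Subgroup.mem_centralizer_singleton_iff]
    have hxx : g'⁻¹ * x * g' = x⁻¹ := by
      calc g'⁻¹ * x * g' = (g'⁻¹ * x⁻¹ * g')⁻¹ := by group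
        _ = (g'⁻¹ * (g' * x * g'⁻¹) * g')⁻¹ := by rw [hg'x]
        _ = x⁻¹ := by group
    constructor
    · intro hn
      have hn' : n * x⁻¹ = x⁻¹ * n := by
        have := congrArg (fun z => x⁻¹ * z * x⁻¹) hn
        simpa [mul_assoc] using this.symm
      calc g' * n * g'⁻¹ * x = g' * (n * (g'⁻¹ * x * g')) * g'⁻¹ := by group
        _ = g' * (n * x⁻¹) * g'⁻¹ := by rw [hxx]
        _ = g' * (x⁻¹ * n) * g'⁻¹ := by rw [hn']
        _ = (g' * x * g'⁻¹)⁻¹ * (g' * n * g'⁻¹) := by group
        _ = x * (g' * n * g'⁻¹) := by rw [hg'x, inv_inv]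
    · intro hn
      have hn' : g' * n * g'⁻¹ * x⁻¹ = x⁻¹ * (g' * n * g'⁻¹) := by
        have := congrArg (fun z => x⁻¹ * z * x⁻¹) hn
        simpa [mul_assoc] using this.symm
      calc n * x = g'⁻¹ * ((g' * n * g'⁻¹) * (g' * x * g'⁻¹)) * g' := by group
        _ = g'⁻¹ * (g' * n * g'⁻¹ * x⁻¹) * g' := by rw [hg'x]
        _ = g'⁻¹ * (x⁻¹ * (g' * n * g'⁻¹)) * g' := by rw [hn']
        _ = (g'⁻¹ * x * g')⁻¹ * n := by group
        _ = x * n := by rw [hxx, inv_inv]
  have hcard := CfsgLib.Core.card_sup_mul_card_inf (Subgroup.zpowers g') H hnorm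
  set X := Subgroup.zpowers g' ⊔ H with hX
  set I := Subgroup.zpowers g' ⊓ H with hI
  obtain ⟨j, hj⟩ : ∃ j, Nat.card (Subgroup.zpowers g') = 2 ^ j := by
    refine ⟨k, ?_⟩
    rw [Nat.card_zpowers, hg', orderOf_pow' _ (by rintro rfl; simp at hm2), hgo,
      Nat.gcd_eq_right (dvd_mul_left m _), Nat.mul_div_cancel _ (Nat.pos_of_ne_zero
        (by rintro rfl; simp at hm2))]
  obtain ⟨i, hij, hi⟩ := (Nat.dvd_prime_pow Nat.prime_two).mp
    (show Nat.card I ∣ 2 ^ j from hj ▸ Subgroup.card_dvd_of_le inf_le_left)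
  rw [hj, hi] at hcard
  have h1 : Nat.card X ∣ Nat.card G := X.card_subgroup_dvd_card
  have hfac : (_ : ℕ) = _ := congrArg (fun z => Nat.factorization z 2) hcard
  beta_reduce at hfac
  have hXpos : Nat.card X ≠ 0 := Nat.card_pos.ne'
  have hHpos : Nat.card H ≠ 0 := Nat.card_pos.ne'
  rw [Nat.factorization_mul hXpos (pow_ne_zero _ (by norm_num)),
    Nat.factorization_mul (pow_ne_zero _ (by norm_num)) hHpos] at hfac
  simp only [Finsupp.coe_add, Pi.add_apply, Nat.Prime.factorization_pow Nat.prime_two,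
    Finsupp.single_eq_same] at hfac
  have hGH : (Nat.card G).factorization 2 = (Nat.card H).factorization 2 := by
    rw [← H.card_mul_index, Nat.factorization_mul hHpos Subgroup.index_ne_zero_of_finite]
    simp [h0]
  have h2 := (Nat.factorization_le_iff_dvd hXpos Nat.card_pos.ne').mpr h1 2
  have hIe : I = Subgroup.zpowers g' := by
    refine Subgroup.eq_of_le_of_card_ge inf_le_left ?_
    rw [hi, hj]
    exact Nat.pow_le_pow_right (by norm_num) (by omega)
  have hz : g' ∈ I := by rw [hIe]; exact Subgroup.mem_zpowers g'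
  exact hg'H hz.2

/-- Involutions commute with all 2-elements. -/
theorem commute_involution (a : ℕ)
    (h : ∀ x : G, IsConj x x⁻¹ → x ∉ Subgroup.center G →
      ((Subgroup.centralizer ({x} : Set G)).index).factorization 2 = a)
    (S : Sylow 2 G)
    (hS : ∀ s : ↥(S : Subgroup G), IsConj s s⁻¹ → s ∈ Subgroup.center ↥(S : Subgroup G))
    {t y : G} (ht : t * t = 1) {k : ℕ} (hy : orderOf y = 2 ^ k) : y * t = t * y := by
  haveI : Fact (Nat.Prime 2) := ⟨Nat.prime_two⟩
  have hpz : ∀ s : G, s * s = 1 → IsPGroup 2 (Subgroup.zpowers s) := fun s hs => by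
    obtain ⟨i, _, hi⟩ := (Nat.dvd_prime_pow Nat.prime_two).mp
      (show orderOf s ∣ 2 ^ 1 by rw [pow_one]; exact orderOf_dvd_of_pow_eq_one (by rw [pow_two, hs]))
    exact IsPGroup.of_card (n := i) (by rw [Nat.card_zpowers, hi])
  by_cases hcen : ∀ s : G, s * s = 1 → s ∈ Subgroup.center G
  · exact Subgroup.mem_center_iff.mp (hcen t ht) y
  push Not at hcen
  obtain ⟨t₀, ht₀, hnc⟩ := hcen
  have ha : a = 0 := by
    obtain ⟨T, hT⟩ := (hpz t₀ ht₀).exists_le_sylow
    have hle : (T : Subgroup G) ≤ Subgroup.centralizer {t₀} := fun z hz =>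
      Subgroup.mem_centralizer_singleton_iff.mpr
        (sylow_le_centralizer S hS T (hT (Subgroup.mem_zpowers t₀)) ht₀ z hz)
    rw [← h t₀ (by rw [inv_eq_of_mul_eq_one_right ht₀]) hnc]
    exact Nat.factorization_eq_zero_of_not_dvd fun hd =>
      T.not_dvd_index (hd.trans (Subgroup.index_dvd_of_le hle))
  subst ha
  -- involutions commute
  have hII : ∀ s r : G, s * s = 1 → r * r = 1 → s * r = r * s := by
    intro s r hs hr
    have hsi : s⁻¹ = s := inv_eq_of_mul_eq_one_right hs
    have hri : r⁻¹ = r := inv_eq_of_mul_eq_one_right hr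
    set x := s * r with hx
    have hxinv : s * x * s⁻¹ = x⁻¹ := by
      rw [hx, mul_inv_rev, hri, hsi]
      calc s * (s * r) * s = (s * s) * (r * s) := by group
        _ = r * s := by rw [hs, one_mul]
    obtain ⟨e, m, hm2, hxo⟩ :=
      Nat.exists_eq_pow_mul_and_not_dvd (orderOf_pos x).ne' 2 (by norm_num)
    have hodd : x ^ (2 ^ e) = 1 := eq_one_of_inverted h (g := s) (by
        rw [orderOf_pow' _ (pow_ne_zero _ (by norm_num)), hxo, Nat.gcd_eq_right (dvd_mul_right _ _),
          Nat.mul_div_cancel_left _ (pow_pos (by norm_num) _)]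
        exact Nat.odd_iff.mpr (Nat.two_dvd_ne_zero.mp hm2))
      (by rw [← conj_pow, hxinv, inv_pow])
    have hnorm : Subgroup.zpowers s ≤ Subgroup.normalizer (Subgroup.zpowers x : Set G) := by
      rw [Subgroup.zpowers_le, Subgroup.mem_normalizer_iff]
      intro n
      have key : ∀ z ∈ Subgroup.zpowers x, s * z * s⁻¹ ∈ Subgroup.zpowers x := by
        rintro z ⟨i, rfl⟩
        refine ⟨-i, ?_⟩
        show x ^ (-i) = s * x ^ i * s⁻¹
        rw [← conj_zpow, hxinv, inv_zpow, zpow_neg]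
      refine ⟨key n, fun hn => ?_⟩
      have := key _ hn
      have he : s * (s * n * s⁻¹) * s⁻¹ = n := by
        rw [hsi]; calc s * (s * n * s) * s = (s * s) * n * (s * s) := by group
          _ = n := by rw [hs, one_mul, mul_one]
      rwa [he] at this
    have hP : IsPGroup 2 (Subgroup.zpowers x) := by
      obtain ⟨i, _, hi⟩ := (Nat.dvd_prime_pow Nat.prime_two).mp (orderOf_dvd_of_pow_eq_one hodd)
      exact IsPGroup.of_card (n := i) (by rw [Nat.card_zpowers, hi])
    obtain ⟨T, hT⟩ := ((hpz s hs).to_sup_of_normal_right' hP hnorm).exists_le_sylow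
    have hsT : s ∈ (T : Subgroup G) := hT (Subgroup.mem_sup_left (Subgroup.mem_zpowers s))
    have hxT : x ∈ (T : Subgroup G) := hT (Subgroup.mem_sup_right (Subgroup.mem_zpowers x))
    have hrT : r ∈ (T : Subgroup G) := by
      have : r = s * x := by rw [hx, ← mul_assoc, hs, one_mul]
      rw [this]; exact (T : Subgroup G).mul_mem hsT hxT
    exact sylow_le_centralizer S hS T hrT hr s hsT
  -- they form a normal 2-subgroup
  let E : Subgroup G :=
    { carrier := {s | s * s = 1}
      one_mem' := one_mul 1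
      mul_mem' := fun {s r} hs hr => by
        show s * r * (s * r) = 1
        calc s * r * (s * r) = s * (r * s) * r := by group
          _ = s * (s * r) * r := by rw [hII s r hs hr]
          _ = (s * s) * (r * r) := by group
          _ = 1 := by rw [show s * s = 1 from hs, show r * r = 1 from hr, one_mul]
      inv_mem' := fun {s} hs => by
        show s⁻¹ * s⁻¹ = 1
        rw [← mul_inv_rev, show s * s = 1 from hs, inv_one] }
  haveI : E.Normal := ⟨fun s hs g => by
    show g * s * g⁻¹ * (g * s * g⁻¹) = 1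
    calc g * s * g⁻¹ * (g * s * g⁻¹) = g * (s * s) * g⁻¹ := by group
      _ = 1 := by rw [show s * s = 1 from hs]; group⟩
  have hE : IsPGroup 2 E := fun s => ⟨1, Subtype.ext (by rw [pow_one, pow_two]; exact s.2)⟩
  obtain ⟨T, hT⟩ := (IsPGroup.of_card (n := k)
    (show Nat.card (Subgroup.zpowers y) = 2 ^ k by rw [Nat.card_zpowers, hy])).exists_le_sylow
  obtain ⟨T', hT'⟩ := hE.exists_le_sylow
  obtain ⟨g, hg⟩ := MulAction.exists_smul_eq G T' T
  have htT : t ∈ (T : Subgroup G) := by
    rw [← hg, Sylow.coe_subgroup_smul, Subgroup.mem_pointwise_smul_iff_inv_smul_mem,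
      ← map_inv, MulAut.smul_def, MulAut.conj_apply]
    exact hT' ((inferInstance : E.Normal).conj_mem t ht g⁻¹)
  exact sylow_le_centralizer S hS T htT ht y (hT (Subgroup.mem_zpowers y))

/-- The subgroup generated by the 2-elements has a normal 2-complement. -/
theorem hasNormalPComplement_two_gen (a : ℕ)
    (h : ∀ x : G, IsConj x x⁻¹ → x ∉ Subgroup.center G →
      ((Subgroup.centralizer ({x} : Set G)).index).factorization 2 = a)
    (S : Sylow 2 G)
    (hS : ∀ s : ↥(S : Subgroup G), IsConj s s⁻¹ → s ∈ Subgroup.center ↥(S : Subgroup G)) :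
    Cfsg.HasNormalPComplement 2 ↥(Subgroup.closure {g : G | ∃ k : ℕ, orderOf g = 2 ^ k}) := by
  haveI : Fact (Nat.Prime 2) := ⟨Nat.prime_two⟩
  set K := Subgroup.closure {g : G | ∃ k : ℕ, orderOf g = 2 ^ k} with hK
  obtain ⟨P⟩ : Nonempty (Sylow 2 K) := inferInstance
  refine CfsgLib.Transfer.hasNormalPComplement_of_centralizes P fun Q hQ g hg hgo => ?_
  have hQ2 : IsPGroup 2 Q := P.2.to_le hQ
  have hmap : Q.map (MulAut.conj g).toMonoidHom = Q :=
    (CfsgLib.Core.conj_smul_eq_map g Q).symm.trans (by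
      ext z
      rw [Subgroup.mem_pointwise_smul_iff_inv_smul_mem, ← map_inv, MulAut.smul_def,
        MulAut.conj_apply, inv_inv]
      exact ((Subgroup.mem_normalizer_iff'').mp hg z).symm)
  let σ : MulAut Q := ((MulAut.conj g).subgroupMap Q).trans (MulEquiv.subgroupCongr hmap)
  have hσ : ∀ z : Q, ((σ z : Q) : K) = g * z * g⁻¹ := fun z => rfl
  have hσp : ∀ (j : ℕ) (z : Q), (((σ ^ j) z : Q) : K) = g ^ j * z * (g ^ j)⁻¹ := by
    intro j
    induction j with
    | zero => intro z; simp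
    | succ j ih => intro z; rw [pow_succ', MulAut.mul_apply, hσ, ih, pow_succ']; group
  have hσ1 : σ ^ orderOf g = 1 := by
    refine MulEquiv.ext fun z => Subtype.ext ?_
    rw [hσp, pow_orderOf_eq_one]; simp
  have hreal : ∀ w v : Q, v⁻¹ * w * v = w⁻¹ → w * w = 1 := by
    intro w v hwv
    have hU : IsPGroup 2 (Q.map K.subtype) := hQ2.map _
    have := real_free S hS hU ⟨_, Subgroup.mem_map_of_mem K.subtype w.2⟩
      ⟨_, Subgroup.mem_map_of_mem K.subtype v.2⟩
      (Subtype.ext (congrArg (fun z : Q => ((z : K) : G)) hwv))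
    have h5 : ((w : K) : G) * ((w : K) : G) = 1 := congrArg Subtype.val this
    exact Subtype.ext (Subtype.ext h5)
  have hinv : ∀ z : Q, z * z = 1 → σ z = z := by
    intro z hz
    have hz' : ((z : K) : G) * ((z : K) : G) = 1 :=
      congrArg (fun w : Q => ((w : K) : G)) hz
    have hle : K ≤ Subgroup.centralizer {((z : K) : G)} := (Subgroup.closure_le _).mpr (by
      rintro y ⟨k, hk⟩
      exact Subgroup.mem_centralizer_singleton_iff.mpr (commute_involution a h S hS hz' hk))
    apply Subtype.ext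
    apply Subtype.ext
    show (g : G) * ((z : K) : G) * (g : G)⁻¹ = ((z : K) : G)
    rw [Subgroup.mem_centralizer_singleton_iff.mp (hle g.2)]; group
  rw [Subgroup.mem_centralizer_iff]
  intro z hz
  have h1 := congrArg Subtype.val (eq_one_of_fix_involutions hQ2 hreal σ
    (Nat.coprime_two_right.mp hgo) hσ1 hinv ⟨z, hz⟩)
  rw [hσ] at h1
  have h2 := congrArg (fun w => w * g) h1
  simpa [mul_assoc] using h2.symm

/-- S4193, given that groups of odd order are solvable. -/
theorem solvable_and_complement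
    (hFT : ∀ (H : Type u) [Group H] [Finite H], Odd (Nat.card H) → Group.IsSolvable H) (a : ℕ)
    (h : ∀ x : G, IsConj x x⁻¹ → x ∉ Subgroup.center G →
      ((Subgroup.centralizer ({x} : Set G)).index).factorization 2 = a)
    (S : Sylow 2 G)
    (hS : ∀ s : ↥(S : Subgroup G), IsConj s s⁻¹ → s ∈ Subgroup.center ↥(S : Subgroup G)) :
    Group.IsSolvable G ∧
      Cfsg.HasNormalPComplement 2 ↥(Subgroup.closure {g : G | ∃ k : ℕ, orderOf g = 2 ^ k}) := by
  haveI : Fact (Nat.Prime 2) := ⟨Nat.prime_two⟩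
  have hnpc := hasNormalPComplement_two_gen a h S hS
  refine ⟨?_, hnpc⟩
  set K := Subgroup.closure {g : G | ∃ k : ℕ, orderOf g = 2 ^ k} with hK
  haveI hKn : K.Normal := by
    refine ⟨fun n hn g => ?_⟩
    have : K ≤ K.comap (MulAut.conj g).toMonoidHom := (Subgroup.closure_le _).mpr (by
      rintro y ⟨k, hk⟩
      exact Subgroup.subset_closure ⟨k, by
        show orderOf (MulAut.conj g y) = 2 ^ k
        rw [MulEquiv.orderOf_eq]; exact hk⟩)
    exact this hn
  obtain ⟨N, hN, hcop, hp⟩ := CfsgLib.Transfer.hasNormalPComplement_iff_exists.mp hnpc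
  haveI := hN
  haveI : Group.IsSolvable N := hFT _ (Nat.coprime_two_right.mp hcop)
  haveI : Group.IsNilpotent (K ⧸ N) := hp.isNilpotent
  haveI : Group.IsSolvable K :=
    (Group.isSolvable_iff_subgroup_quotient N).mpr ⟨inferInstance, inferInstance⟩
  haveI : Group.IsSolvable (G ⧸ K) := hFT _ (by
    rw [← Subgroup.index_eq_card, Nat.odd_iff, ← Nat.two_dvd_ne_zero]
    intro hd
    refine S.not_dvd_index (hd.trans (Subgroup.index_dvd_of_le fun x hx => ?_))
    obtain ⟨k, hk⟩ := IsPGroup.iff_orderOf.mp S.2 ⟨x, hx⟩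
    exact Subgroup.subset_closure ⟨k, by rw [← hk, Subgroup.orderOf_mk]⟩)
  exact (Group.isSolvable_iff_subgroup_quotient K).mpr ⟨inferInstance, inferInstance⟩

end CfsgLib.PGroups.RealClass
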