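import Mathlib

/-!
# Odd automorphisms of 2-groups without real elements of order greater than two

`eq_one_of_fix_involutions`: if no element of order `> 2` of the finite 2-group `U` is conjugate
to its inverse, an automorphism of odd order fixing every involution is trivial.
-/

set_option autoImplicit false
set_option linter.all false

universe u

namespace CfsgLib.PGroups.RealClass

open scoped commutatorElement

theorem pow_apply_eq {U : Type u} [Group U] (σ : MulAut U) {x : U} (h : σ x = x) :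
    ∀ k : ℕ, (σ ^ k) x = x
  | 0 => by simp
  | k + 1 => by rw [pow_succ, MulAut.mul_apply, h, pow_apply_eq σ h k]

/-- An element fixed by `σ` whose orbit product is trivial is trivial. -/
theorem eq_one_of_fixed_orbit {U : Type u} [Group U] [Finite U] (hU : IsPGroup 2 U)
    (σ : MulAut U) {m : ℕ} (hm : Odd m) (hσ : σ ^ m = 1) {x : U}
    (h : σ (x⁻¹ * σ x) = x⁻¹ * σ x) : σ x = x := by
  set u := x⁻¹ * σ x with hu
  have hp : ∀ k : ℕ, (σ ^ k) x = x * u ^ k := by
    intro k
    induction k with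
    | zero => simp
    | succ k ih =>
      have hx : σ x = x * u := by rw [hu]; group
      rw [pow_succ', MulAut.mul_apply, ih, map_mul, map_pow, h, hx, pow_succ' u k, mul_assoc]
  have h1 : u ^ m = 1 := by
    have := hp m
    rw [hσ, MulAut.one_apply] at this
    exact (mul_eq_left.mp this.symm)
  obtain ⟨e, he⟩ := IsPGroup.iff_orderOf.mp hU u
  have h2 : orderOf u = 1 := Nat.eq_one_of_dvd_coprimes
    (Nat.Coprime.pow_left e (Nat.coprime_two_left.mpr hm)) (by rw [he])
    (orderOf_dvd_of_pow_eq_one h1)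
  have h3 : u = 1 := orderOf_eq_one_iff.mp h2
  exact (inv_mul_eq_one.mp h3).symm

theorem eq_one_aux : ∀ (n : ℕ) {U : Type u} [Group U] [Finite U], Nat.card U = n → IsPGroup 2 U →
    (∀ w v : U, v⁻¹ * w * v = w⁻¹ → w * w = 1) → ∀ (σ : MulAut U) (m : ℕ), Odd m → σ ^ m = 1 →
    (∀ x : U, x * x = 1 → σ x = x) → ∀ x : U, σ x = x := by
  intro n
  induction n using Nat.strong_induction_on with
  | _ n ih =>
  intro U _ _ hn hU hreal σ m hm hσ hinv
  -- restriction to proper invariant subgroups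
  have hrec : ∀ V : Subgroup U, V ≠ ⊤ → (∀ y ∈ V, σ y ∈ V) → ∀ y ∈ V, σ y = y := by
    intro V hV hi y hy
    have hmap : V.map σ.toMonoidHom = V := by
      apply Subgroup.eq_of_le_of_card_ge
      · rintro _ ⟨z, hz, rfl⟩; exact hi z hz
      · rw [Subgroup.card_map_of_injective σ.injective]
    let τ : MulAut V := (σ.subgroupMap V).trans (MulEquiv.subgroupCongr hmap)
    have hτ : ∀ z : V, ((τ z : V) : U) = σ z := fun z => rfl
    have hτp : ∀ (k : ℕ) (z : V), (((τ ^ k) z : V) : U) = (σ ^ k) z := by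
      intro k
      induction k with
      | zero => intro z; simp
      | succ k ihk => intro z; rw [pow_succ', MulAut.mul_apply, hτ, ihk, pow_succ', MulAut.mul_apply]
    have hlt : Nat.card V < n := by
      rw [← hn]
      exact lt_of_le_of_ne (Subgroup.card_le_card_group V)
        fun he => hV (Subgroup.eq_top_of_card_eq V he)
    have := ih _ hlt rfl (hU.to_subgroup V)
      (fun w v h => Subtype.ext (hreal w v (congrArg Subtype.val h))) τ m hm
      (MulEquiv.ext fun z => Subtype.ext (by rw [hτp, hσ]; rfl))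
      (fun z hz => Subtype.ext (hinv z (congrArg Subtype.val hz))) ⟨y, hy⟩
    exact congrArg Subtype.val this
  by_cases hU1 : Nontrivial U
  swap
  · intro x; haveI := not_nontrivial_iff_subsingleton.mp hU1; exact Subsingleton.elim _ _
  -- the subgroup generated by squares
  let W : Subgroup U := Subgroup.closure (Set.range fun y : U => y * y)
  have hW : W ≠ ⊤ := by
    obtain ⟨e, he⟩ := IsPGroup.iff_card.mp hU
    have he0 : e ≠ 0 := fun h0 => by
      rw [h0, pow_zero] at he; exact absurd he Finite.one_lt_card.ne'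
    obtain ⟨M, hM⟩ := Sylow.exists_subgroup_card_pow_prime 2 (G := U) (n := e - 1)
      (by rw [he]; exact pow_dvd_pow 2 (Nat.sub_le e 1))
    have hidx : M.index = 2 := by
      have := M.card_mul_index
      rw [hM, he] at this
      obtain ⟨e', rfl⟩ : ∃ e', e = e' + 1 := ⟨e - 1, by omega⟩
      rw [pow_succ, Nat.add_sub_cancel] at this
      exact Nat.eq_of_mul_eq_mul_left (pow_pos (by norm_num) _) this
    intro h
    have hle : W ≤ M := (Subgroup.closure_le M).mpr (by
      rintro _ ⟨y, rfl⟩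
      exact Subgroup.mul_self_mem_of_index_two hidx y)
    rw [h, top_le_iff] at hle
    rw [hle, Subgroup.index_top] at hidx
    exact absurd hidx (by norm_num)
  have hWi : ∀ y ∈ W, σ y ∈ W := fun y hy => by
    have : W ≤ W.comap σ.toMonoidHom := (Subgroup.closure_le _).mpr (by
      rintro _ ⟨z, rfl⟩
      exact Subgroup.subset_closure ⟨σ z, (map_mul σ z z).symm⟩)
    exact this hy
  have hfW := hrec W hW hWi
  have hsq : ∀ y : U, y * y ∈ W := fun y => Subgroup.subset_closure ⟨y, rfl⟩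
  have hcomW : ∀ a b : U, a⁻¹ * b⁻¹ * a * b ∈ W := fun a b => by
    have : a⁻¹ * b⁻¹ * a * b = a⁻¹ * a⁻¹ * ((a * b⁻¹) * (a * b⁻¹)) * (b * b) := by group
    rw [this]
    exact W.mul_mem (W.mul_mem (hsq _) (hsq _)) (hsq _)
  -- the moved part
  let T : Subgroup U := Subgroup.closure (Set.range fun y : U => σ y * y⁻¹)
  have hTi : ∀ y ∈ T, σ y ∈ T := fun y hy => by
    have : T ≤ T.comap σ.toMonoidHom := (Subgroup.closure_le _).mpr (by
      rintro _ ⟨z, rfl⟩
      refine Subgroup.subset_closure ⟨σ z, ?_⟩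
      show σ (σ z) * (σ z)⁻¹ = σ (σ z * z⁻¹)
      rw [map_mul, map_inv])
    exact this hy
  intro x
  have hxT : x⁻¹ * σ x ∈ T := by
    have h1 : σ x⁻¹ * x⁻¹⁻¹ ∈ T := Subgroup.subset_closure ⟨x⁻¹, rfl⟩
    have := T.inv_mem h1
    simpa [map_inv] using this
  by_cases hT : T = ⊤
  swap
  · exact eq_one_of_fixed_orbit hU σ hm hσ (hrec T hT hTi _ hxT)
  -- squares are central
  have hcen : ∀ w ∈ W, ∀ y : U, y * w = w * y := by
    intro w hw y
    have hsub : T ≤ Subgroup.centralizer {w} := (Subgroup.closure_le _).mpr (by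
      rintro _ ⟨z, rfl⟩
      rw [SetLike.mem_coe, Subgroup.mem_centralizer_singleton_iff]
      have h1 := hfW _ (hcomW z w)
      rw [map_mul, map_mul, map_mul, map_inv, map_inv, hfW w hw] at h1
      have h2 : σ z * z⁻¹ * w = w * (σ z * z⁻¹) := by
        have h3 := congrArg (fun t => σ z * t * w⁻¹) h1
        simp only [mul_assoc, mul_inv_cancel_left, mul_inv_cancel, mul_one] at h3
        -- h3 : w⁻¹ * σ z = σ z * (z⁻¹ * (w⁻¹ * z))
        have h4 := congrArg (fun t => w * t * (z⁻¹ * w)) h3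
        simp only [mul_assoc, mul_inv_cancel_left, inv_mul_cancel, mul_one] at h4
        simpa [mul_assoc] using h4
      exact h2)
    rw [hT] at hsub
    exact Subgroup.mem_centralizer_singleton_iff.mp (hsub (Subgroup.mem_top y))
  have hbr : ∀ a b : U, σ (a⁻¹ * b⁻¹ * a * b) = a⁻¹ * b⁻¹ * a * b := fun a b => hfW _ (hcomW a b)
  have hmulr : ∀ a b c : U, a⁻¹ * (b * c)⁻¹ * a * (b * c) =
      (a⁻¹ * b⁻¹ * a * b) * (a⁻¹ * c⁻¹ * a * c) := by
    intro a b c
    have e : a⁻¹ * (b * c)⁻¹ * a * (b * c) =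
        (a⁻¹ * c⁻¹ * a) * ((a⁻¹ * b⁻¹ * a * b) * c) := by group
    rw [e, ← hcen _ (hcomW a b) c, ← mul_assoc (a⁻¹ * c⁻¹ * a) c, hcen _ (hcomW a b)]
  set u := x⁻¹ * σ x with hu
  let P : ℕ → U := fun k => x⁻¹ * (σ ^ k) x
  have hPs : ∀ k, P (k + 1) = P k * (σ ^ k) u := fun k => by
    show x⁻¹ * (σ ^ (k + 1)) x = x⁻¹ * (σ ^ k) x * (σ ^ k) (x⁻¹ * σ x)
    rw [map_mul, map_inv, pow_succ, MulAut.mul_apply]; group
  have hPk : ∀ k, ∃ v : U, P k * P k = (u * u) ^ k * (u⁻¹ * v⁻¹ * u * v) := by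
    intro k
    induction k with
    | zero => exact ⟨1, by simp [P]⟩
    | succ k ihk =>
      obtain ⟨v, hv⟩ := ihk
      let Q : U := (σ ^ k).symm (P k)
      refine ⟨v * Q, ?_⟩
      have hb2 : (σ ^ k) u * (σ ^ k) u = u * u := by
        rw [← map_mul]; exact pow_apply_eq σ (hfW _ (hsq u)) k
      have hcm : ((σ ^ k) u)⁻¹ * (P k)⁻¹ * (σ ^ k) u * P k = u⁻¹ * Q⁻¹ * u * Q := by
        have hQ : (σ ^ k) Q = P k := (σ ^ k).apply_symm_apply _
        rw [← hQ, ← map_inv, ← map_inv, ← map_mul, ← map_mul, ← map_mul]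
        exact pow_apply_eq σ (hbr u Q) k
      rw [hPs, hmulr, ← mul_assoc, pow_succ']
      set b := (σ ^ k) u with hb
      set p := P k with hp
      have e1 : p * b * (p * b) = p * (p * b) * (b⁻¹ * p⁻¹ * b * p) * b := by group
      have hc : b⁻¹ * p⁻¹ * b * p ∈ W := hcomW b p
      rw [mul_assoc (p * (p * b)), ← hcen _ hc b] at e1
      have e2 : p * (p * b) * (b * (b⁻¹ * p⁻¹ * b * p)) =
          (p * p) * (b * b) * (b⁻¹ * p⁻¹ * b * p) := by simp only [mul_assoc]
      rw [← mul_assoc (p * b) p b] at e1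
      rw [e1, e2, hb2, hcm, hv]
      have hc2 := hcen _ (hcomW u v) (u * u)
      rw [mul_assoc ((u * u) ^ k), ← hc2, ← mul_assoc ((u * u) ^ k), ← pow_succ, ← pow_succ']
      simp only [mul_assoc]
  obtain ⟨v, hv⟩ := hPk m
  have hPm : P m = 1 := by show x⁻¹ * (σ ^ m) x = 1; rw [hσ, MulAut.one_apply, inv_mul_cancel]
  rw [hPm, mul_one] at hv
  -- `w = u ^ m` is inverted by `v`
  have hpowl : ∀ j : ℕ, (u ^ j)⁻¹ * v⁻¹ * u ^ j * v = (u⁻¹ * v⁻¹ * u * v) ^ j := by
    intro j
    induction j with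
    | zero => simp
    | succ j ihj =>
      have e : (u ^ (j + 1))⁻¹ * v⁻¹ * u ^ (j + 1) * v =
          u⁻¹ * (((u ^ j)⁻¹ * v⁻¹ * u ^ j * v) * (v⁻¹ * u * v)) := by group
      rw [e, ihj, pow_succ, ← mul_assoc u⁻¹, hcen _ (W.pow_mem (hcomW u v) j) u⁻¹]
      group
  set c := u⁻¹ * v⁻¹ * u * v with hcdef
  have hc2 : c * c = 1 := by
    -- `c² = [u², v] = 1`
    have h1 := hpowl 2
    rw [pow_two, pow_two] at h1
    have h2 := hcen _ (hsq u) v⁻¹
    rw [mul_assoc (u * u)⁻¹, mul_assoc (u * u)⁻¹, h2] at h1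
    rw [← h1]; group
  obtain ⟨j, hj⟩ := hm
  have hcm' : c ^ m = c := by rw [hj, pow_succ, pow_mul, pow_two, hc2, one_pow, one_mul]
  have hw : v⁻¹ * u ^ m * v = (u ^ m)⁻¹ := by
    have h1 := hpowl m
    rw [hcm'] at h1
    have h2 : c = ((u * u) ^ m)⁻¹ := eq_inv_of_mul_eq_one_right hv.symm
    rw [h2] at h1
    have h3 := congrArg (fun t => u ^ m * t) h1
    rw [← pow_two, ← pow_mul, mul_comm 2 m, pow_mul, pow_two] at h3
    simp only [mul_assoc, mul_inv_cancel_left, mul_inv_rev, mul_inv_cancel_left] at h3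
    simpa [mul_assoc] using h3
  have hfix : σ (u ^ m) = u ^ m := hinv _ (hreal _ _ hw)
  have hσu : σ u = u := by
    have h2 : σ (u * u) = u * u := hfW _ (hsq u)
    rw [hj, pow_succ, pow_mul, pow_two, map_mul, map_pow, h2] at hfix
    exact mul_left_cancel hfix
  exact eq_one_of_fixed_orbit hU σ ⟨j, hj⟩ hσ hσu

/-- In a finite 2-group without real elements of order `> 2`, an automorphism of odd order fixing
all involutions is trivial. -/
theorem eq_one_of_fix_involutions {U : Type u} [Group U] [Finite U] (hU : IsPGroup 2 U)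
    (hreal : ∀ w v : U, v⁻¹ * w * v = w⁻¹ → w * w = 1) (σ : MulAut U) {m : ℕ} (hm : Odd m)
    (hσ : σ ^ m = 1) (hinv : ∀ x : U, x * x = 1 → σ x = x) (x : U) : σ x = x :=
  eq_one_aux _ rfl hU hreal σ m hm hσ hinv x

end CfsgLib.PGroups.RealClass
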